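/-
SU_3(2) over a field with four elements: its derived subgroup.
Main result: derived_su32 (hF : card F = 4): commutator (SU 3 F 2) has order 54 and is generated by three
involutions a, b, c with (ab)^2, (ac)^2, (bc)^2, (c*aba)^2 all different from 1.
-/
import Cfsg.Agent.Lib.Unitary.Count

set_option autoImplicit false
open Cfsg
open scoped commutatorElement Matrix

namespace Cfsg.Agent.SU32

/-- The field with four elements. -/
inductive K4
  | z
  | o
  | w
  | w2
  deriving DecidableEq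

namespace K4

/-- Addition. -/
def add : K4 → K4 → K4
  | .z, x => x
  | x, .z => x
  | .o, .o => .z
  | .o, .w => .w2
  | .o, .w2 => .w
  | .w, .o => .w2
  | .w, .w => .z
  | .w, .w2 => .o
  | .w2, .o => .w
  | .w2, .w => .o
  | .w2, .w2 => .z

/-- Multiplication. -/
def mul : K4 → K4 → K4
  | .z, _ => .z
  | _, .z => .z
  | .o, x => x
  | x, .o => x
  | .w, .w => .w2
  | .w, .w2 => .o
  | .w2, .w => .o
  | .w2, .w2 => .w

/-- Inverse. -/
def inv : K4 → K4
  | .z => .z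
  | .o => .o
  | .w => .w2
  | .w2 => .w

instance instFintypeK4 : Fintype K4 := ⟨{.z, .o, .w, .w2}, fun x => by cases x <;> decide⟩

instance instZeroK4 : Zero K4 := ⟨.z⟩
instance instOneK4 : One K4 := ⟨.o⟩
instance instAddK4 : Add K4 := ⟨add⟩
instance instMulK4 : Mul K4 := ⟨mul⟩
instance instNegK4 : Neg K4 := ⟨fun x => x⟩

instance instCommRingK4 : CommRing K4 where
  add_assoc a b c := by cases a <;> cases b <;> cases c <;> rfl
  zero_add a := by cases a <;> rfl
  add_zero a := by cases a <;> rfl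
  add_comm a b := by cases a <;> cases b <;> rfl
  left_distrib a b c := by cases a <;> cases b <;> cases c <;> rfl
  right_distrib a b c := by cases a <;> cases b <;> cases c <;> rfl
  zero_mul a := by cases a <;> rfl
  mul_zero a := by cases a <;> rfl
  mul_assoc a b c := by cases a <;> cases b <;> cases c <;> rfl
  one_mul a := by cases a <;> rfl
  mul_one a := by cases a <;> rfl
  neg_add_cancel a := by cases a <;> rfl
  mul_comm a b := by cases a <;> cases b <;> rfl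
  nsmul := nsmulRec
  zsmul := zsmulRec

instance instFieldK4 : Field K4 where
  inv := inv
  exists_pair_ne := ⟨.z, .o, by decide⟩
  mul_inv_cancel a h := by cases a <;> first | rfl | exact absurd rfl h
  inv_zero := rfl
  nnqsmul := _
  qsmul := _

theorem card_eq : Fintype.card K4 = 4 := rfl

end K4

/-- A 3 x 3 matrix by its entries. -/
structure M3 where
  a : K4
  b : K4
  c : K4
  d : K4
  e : K4
  f : K4
  g : K4
  h : K4
  i : K4
  deriving DecidableEq

namespace M3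

/-- The matrix. -/
def mat (x : M3) : Matrix (Fin 3) (Fin 3) K4 :=
  !![x.a, x.b, x.c; x.d, x.e, x.f; x.g, x.h, x.i]

/-- The product. -/
def mul (x y : M3) : M3 :=
  ⟨x.a * y.a + x.b * y.d + x.c * y.g, x.a * y.b + x.b * y.e + x.c * y.h,
    x.a * y.c + x.b * y.f + x.c * y.i,
    x.d * y.a + x.e * y.d + x.f * y.g, x.d * y.b + x.e * y.e + x.f * y.h,
    x.d * y.c + x.e * y.f + x.f * y.i,
    x.g * y.a + x.h * y.d + x.i * y.g, x.g * y.b + x.h * y.e + x.i * y.h,
    x.g * y.c + x.h * y.f + x.i * y.i⟩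

/-- The identity. -/
def unit : M3 := ⟨.o, .z, .z, .z, .o, .z, .z, .z, .o⟩

theorem mat_mul (x y : M3) : (mul x y).mat = x.mat * y.mat := by
  ext i j
  rw [Matrix.mul_apply, Fin.sum_univ_three]
  fin_cases i <;> fin_cases j <;> rfl

theorem mat_unit : unit.mat = 1 := by decide +kernel

theorem mat_inj {x y : M3} (h : x.mat = y.mat) : x = y := by
  have e := fun i j => congrFun (congrFun h i) j
  cases x; cases y
  simp only [M3.mk.injEq]
  exact ⟨e 0 0, e 0 1, e 0 2, e 1 0, e 1 1, e 1 2, e 2 0, e 2 1, e 2 2⟩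

/-- Orthonormality of the columns, entrywise. -/
def colsOK (x : M3) : Prop :=
  ∀ i j : Fin 3, (∑ k, x.mat k i * (x.mat k j) ^ 2) = if i = j then 1 else 0

instance decColsOK (x : M3) : Decidable x.colsOK := by unfold colsOK; infer_instance

end M3

/-- The group over `K4`. -/
abbrev SU4 : Type := ↥(Cfsg.SU 3 K4 2)

theorem isUnitary_of_colsOK {x : M3} (h : x.colsOK) : Unitary.IsUnitary 2 x.mat := by
  rw [Unitary.isUnitary_iff_orthonormal (by rfl)]
  refine ⟨fun i => ?_, fun i j hij => ?_⟩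
  · exact (h i i).trans (if_pos rfl)
  · exact (h i j).trans (if_neg hij)

/-- An element of the group from a checked matrix. -/
def mk (x : M3) (h : x.colsOK) (hd : x.mat.det = 1) : SU4 :=
  Unitary.suOfUnitary x.mat (isUnitary_of_colsOK h) hd

/-- The matrix of a group element. -/
def val (g : SU4) : Matrix (Fin 3) (Fin 3) K4 :=
  ((g : Matrix.SpecialLinearGroup (Fin 3) K4) : Matrix (Fin 3) (Fin 3) K4)

theorem val_inj {g h : SU4} (e : val g = val h) : g = h := Subtype.ext (Subtype.ext e)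
theorem val_mul (g h : SU4) : val (g * h) = val g * val h := rfl
theorem val_one : val 1 = 1 := rfl
theorem val_mk (x : M3) (h : x.colsOK) (hd : x.mat.det = 1) : val (mk x h hd) = x.mat := rfl


/-- Certificate data. -/
def table : List M3 := [
  ⟨.o, .z, .z, .z, .o, .z, .z, .z, .o⟩,
  ⟨.z, .z, .o, .z, .o, .z, .o, .z, .z⟩,
  ⟨.o, .z, .z, .z, .z, .w, .z, .w2, .z⟩,
  ⟨.z, .o, .z, .o, .z, .z, .z, .z, .o⟩,
  ⟨.z, .w2, .z, .z, .z, .w, .o, .z, .z⟩,
  ⟨.z, .z, .o, .o, .z, .z, .z, .o, .z⟩,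
  ⟨.z, .z, .o, .w, .z, .z, .z, .w2, .z⟩,
  ⟨.z, .o, .z, .z, .z, .w, .w2, .z, .z⟩,
  ⟨.z, .o, .z, .z, .z, .o, .o, .z, .z⟩,
  ⟨.z, .z, .w, .o, .z, .z, .z, .w2, .z⟩,
  ⟨.z, .w2, .z, .w, .z, .z, .z, .z, .o⟩,
  ⟨.w2, .z, .z, .z, .z, .w, .z, .o, .z⟩,
  ⟨.o, .z, .z, .z, .z, .o, .z, .o, .z⟩,
  ⟨.z, .w2, .z, .o, .z, .z, .z, .z, .w⟩,
  ⟨.z, .z, .o, .z, .w, .z, .w2, .z, .z⟩,
  ⟨.z, .o, .z, .w, .z, .z, .z, .z, .w2⟩,
  ⟨.z, .z, .w, .z, .o, .z, .w2, .z, .z⟩,
  ⟨.z, .z, .w, .z, .w2, .z, .o, .z, .z⟩,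
  ⟨.w, .z, .z, .z, .z, .o, .z, .w2, .z⟩,
  ⟨.w2, .z, .z, .z, .w, .z, .z, .z, .o⟩,
  ⟨.z, .z, .w2, .w, .z, .z, .z, .o, .z⟩,
  ⟨.w2, .z, .z, .z, .o, .z, .z, .z, .w⟩,
  ⟨.o, .z, .z, .z, .w2, .z, .z, .z, .w⟩,
  ⟨.z, .w2, .z, .z, .z, .o, .w, .z, .z⟩,
  ⟨.o, .z, .z, .z, .w, .z, .z, .z, .w2⟩,
  ⟨.z, .w2, .z, .z, .z, .w2, .w2, .z, .z⟩,
  ⟨.z, .z, .w, .w, .z, .z, .z, .w, .z⟩,
  ⟨.w, .z, .z, .z, .o, .z, .z, .z, .w2⟩,
  ⟨.w, .z, .z, .z, .w2, .z, .z, .z, .o⟩,
  ⟨.z, .z, .w, .w2, .z, .z, .z, .o, .z⟩,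
  ⟨.z, .w, .z, .z, .z, .o, .w2, .z, .z⟩,
  ⟨.z, .z, .w2, .z, .w, .z, .o, .z, .z⟩,
  ⟨.w2, .z, .z, .z, .z, .w2, .z, .w2, .z⟩,
  ⟨.z, .w, .z, .w, .z, .z, .z, .z, .w⟩,
  ⟨.z, .z, .w2, .z, .o, .z, .w, .z, .z⟩,
  ⟨.z, .z, .o, .z, .w2, .z, .w, .z, .z⟩,
  ⟨.z, .o, .z, .w2, .z, .z, .z, .z, .w⟩,
  ⟨.w2, .z, .z, .z, .z, .o, .z, .w, .z⟩,
  ⟨.o, .z, .z, .z, .z, .w2, .z, .w, .z⟩,
  ⟨.z, .w2, .z, .w2, .z, .z, .z, .z, .w2⟩,
  ⟨.w, .z, .z, .z, .z, .w, .z, .w, .z⟩,
  ⟨.z, .z, .w, .z, .w, .z, .w, .z, .z⟩,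
  ⟨.z, .w, .z, .o, .z, .z, .z, .z, .w2⟩,
  ⟨.z, .w, .z, .w2, .z, .z, .z, .z, .o⟩,
  ⟨.w, .z, .z, .z, .z, .w2, .z, .o, .z⟩,
  ⟨.z, .z, .w2, .z, .w2, .z, .w2, .z, .z⟩,
  ⟨.z, .w, .z, .z, .z, .w2, .o, .z, .z⟩,
  ⟨.z, .z, .w2, .w2, .z, .z, .z, .w2, .z⟩,
  ⟨.z, .w, .z, .z, .z, .w, .w, .z, .z⟩,
  ⟨.w, .z, .z, .z, .w, .z, .z, .z, .w⟩,
  ⟨.z, .z, .w2, .o, .z, .z, .z, .w, .z⟩,
  ⟨.z, .z, .o, .w2, .z, .z, .z, .w, .z⟩,
  ⟨.z, .o, .z, .z, .z, .w2, .w, .z, .z⟩,
  ⟨.w2, .z, .z, .z, .w2, .z, .z, .z, .w2⟩]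

/-- Certificate data. -/
def words : List (List (Fin 3)) := [
  [], [0], [1], [2], [0,1], [0,2], [1,0], [1,2], [2,0], [2,1], [0,1,0], [0,1,2], [0,2,0], [0,2,1], [1,0,2], [1,2,0], [1,2,1], [2,0,1], [2,1,0], [0,1,0,2], [0,1,2,0], [0,1,2,1], [0,2,0,1], [0,2,1,0], [1,0,2,0], [1,0,2,1], [1,2,0,1], [1,2,1,0], [2,0,1,0], [2,0,1,2], [2,1,0,2], [0,1,0,2,0], [0,1,0,2,1], [0,1,2,0,1], [0,1,2,1,0], [0,2,0,1,0], [0,2,0,1,2], [0,2,1,0,2], [1,0,2,0,1], [1,0,2,1,0], [1,2,0,1,0], [1,2,0,1,2], [1,2,1,0,2], [2,0,1,0,2], [2,0,1,2,0], [2,1,0,2,1], [0,1,0,2,0,1], [0,1,0,2,1,0], [0,1,2,0,1,0], [0,1,2,0,1,2], [0,1,2,1,0,2], [0,2,0,1,0,2], [0,2,0,1,2,0], [0,2,1,0,2,1]]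

/-- Certificate data. -/
def extra0 : M3 := ⟨.o, .o, .o, .o, .w, .w2, .o, .w2, .w⟩

/-- Certificate data. -/
def extra1 : M3 := ⟨.o, .o, .w2, .o, .w, .w, .w, .o, .w⟩

/-- Certificate data. -/
def gen0 : M3 := ⟨.z, .z, .o, .z, .o, .z, .o, .z, .z⟩

/-- Certificate data. -/
def gen1 : M3 := ⟨.o, .z, .z, .z, .z, .w, .z, .w2, .z⟩

/-- Certificate data. -/
def gen2 : M3 := ⟨.z, .o, .z, .o, .z, .z, .z, .z, .o⟩

/-- The three generators as matrices. -/
def gen : Fin 3 → M3 := ![gen0, gen1, gen2]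

theorem det_fin (x : M3) : x.mat.det =
    x.a * x.e * x.i - x.a * x.f * x.h - x.b * x.d * x.i + x.b * x.f * x.g +
      x.c * x.d * x.h - x.c * x.e * x.g := by
  rw [Matrix.det_fin_three]; rfl

theorem gen_ok : ∀ i, (gen i).colsOK := by decide +kernel
theorem gen_det (i : Fin 3) : (gen i).mat.det = 1 := by
  rw [det_fin]; revert i; decide +kernel

/-- The three involutions. -/
def T (i : Fin 3) : SU4 := mk (gen i) (gen_ok i) (gen_det i)

/-- The element `extra0`. -/
def E0 : SU4 := mk extra0 (by decide +kernel) (by rw [det_fin]; decide +kernel)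
/-- The element `extra1`. -/
def E1 : SU4 := mk extra1 (by decide +kernel) (by rw [det_fin]; decide +kernel)

/-- Evaluation of a word. -/
def evalWord (w : List (Fin 3)) : M3 := w.foldl (fun x i => M3.mul x (gen i)) M3.unit

theorem foldl_val (w : List (Fin 3)) (x : M3) (g : SU4) (h : val g = x.mat) :
    val (g * (w.map T).prod) = (w.foldl (fun x i => M3.mul x (gen i)) x).mat := by
  induction w generalizing x g with
  | nil => simpa using h
  | cons i t ih =>
    rw [List.map_cons, List.prod_cons, ← mul_assoc, List.foldl_cons]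
    refine ih _ _ ?_
    rw [val_mul, h, M3.mat_mul]
    rfl

theorem evalWord_val (w : List (Fin 3)) : val ((w.map T).prod) = (evalWord w).mat := by
  have := foldl_val w M3.unit 1 (by rw [val_one, M3.mat_unit])
  rwa [one_mul] at this

theorem table_eq : words.map evalWord = table := by decide +kernel
theorem table_nodup : table.Nodup := by decide +kernel
theorem table_closed : ∀ x ∈ table, ∀ i, M3.mul x (gen i) ∈ table := by decide +kernel
theorem table_unit : M3.unit ∈ table := by decide +kernel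

/-- The subgroup generated by the three involutions. -/
def H : Subgroup SU4 := Subgroup.closure (Set.range T)

theorem T_mem (i : Fin 3) : T i ∈ H := Subgroup.subset_closure ⟨i, rfl⟩

theorem T_sq (i : Fin 3) : T i * T i = 1 := by
  apply val_inj
  rw [val_mul, val_one]
  show (gen i).mat * (gen i).mat = 1
  rw [← M3.mat_mul, ← M3.mat_unit]
  congr 1
  revert i; decide +kernel

theorem mem_H_iff (g : SU4) : g ∈ H ↔ ∃ x ∈ table, val g = x.mat := by
  constructor
  · intro hg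
    induction hg using Subgroup.closure_induction_right with
    | one => exact ⟨M3.unit, table_unit, by rw [val_one, M3.mat_unit]⟩
    | mul_right g hg t ht ih =>
      obtain ⟨i, rfl⟩ := ht
      obtain ⟨x, hx, he⟩ := ih
      exact ⟨M3.mul x (gen i), table_closed x hx i, by rw [val_mul, he, M3.mat_mul]; rfl⟩
    | mul_inv_cancel g hg t ht ih =>
      obtain ⟨i, rfl⟩ := ht
      obtain ⟨x, hx, he⟩ := ih
      rw [inv_eq_of_mul_eq_one_right (T_sq i)]
      exact ⟨M3.mul x (gen i), table_closed x hx i, by rw [val_mul, he, M3.mat_mul]; rfl⟩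
  · rintro ⟨x, hx, he⟩
    rw [← table_eq, List.mem_map] at hx
    obtain ⟨w, -, rfl⟩ := hx
    rw [← evalWord_val] at he
    rw [val_inj he]
    exact list_prod_mem (fun y hy => by
      obtain ⟨i, -, rfl⟩ := List.mem_map.1 hy
      exact T_mem i)

theorem card_H : Nat.card H = 54 := by
  have e : (H : Set SU4) = val ⁻¹' ↑((table.map M3.mat).toFinset) := by
    ext g
    rw [SetLike.mem_coe, mem_H_iff]
    simp [eq_comm]
  have hsub : (↑((table.map M3.mat).toFinset) : Set (Matrix (Fin 3) (Fin 3) K4)) ⊆ Set.range val := by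
    intro M hM
    simp only [List.coe_toFinset, Set.mem_setOf_eq, List.mem_map] at hM
    obtain ⟨x, hx, rfl⟩ := hM
    rw [← table_eq, List.mem_map] at hx
    obtain ⟨w, -, rfl⟩ := hx
    exact ⟨_, evalWord_val w⟩
  rw [← SetLike.coe_sort_coe, e, Nat.card_preimage_of_injective (fun _ _ h => val_inj h) hsub,
    Nat.card_coe_set_eq, Set.ncard_coe_finset,
    List.toFinset_card_of_nodup (table_nodup.map (fun _ _ h => M3.mat_inj h)), List.length_map]
  rfl

theorem card_SU4 : Nat.card SU4 = 216 := by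
  have h := Unitary.card_SU (F := K4) (q := 2) (by rfl) 3 (by norm_num)
  simp [Finset.prod_range_succ] at h
  show Nat.card ↥(Cfsg.SU 3 K4 2) = 216
  omega

theorem extra_conj : ∀ i, ∃ x ∈ table, M3.mul extra0 (gen i) = M3.mul x extra0 := by decide +kernel
theorem extra_conj1 : ∀ i, ∃ x ∈ table, M3.mul extra1 (gen i) = M3.mul x extra1 := by decide +kernel
theorem extra0_not : extra0 ∉ table := by decide +kernel
theorem extra1_not : extra1 ∉ table := by decide +kernel
theorem extra01_not : ∀ x ∈ table, M3.mul extra0 x ≠ extra1 := by decide +kernel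

theorem conj_mem (E : SU4) (X : M3) (hX : val E = X.mat)
    (h : ∀ i, ∃ x ∈ table, M3.mul X (gen i) = M3.mul x X) : E ∈ Subgroup.normalizer (H : Set SU4) := by
  refine Subgroup.mem_normalizer_fintype fun n hn => ?_
  suffices hsuff : H ≤ H.comap (MulAut.conj E).toMonoidHom from hsuff hn
  refine (Subgroup.closure_le _).2 ?_
  rintro _ ⟨i, rfl⟩
  obtain ⟨x, hx, he⟩ := h i
  have hxm : x ∈ words.map evalWord := table_eq ▸ hx
  obtain ⟨w, -, hw⟩ := List.mem_map.1 hxm
  show E * T i * E⁻¹ ∈ H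
  have e2 : E * T i = (w.map T).prod * E := by
    apply val_inj
    rw [val_mul, val_mul, evalWord_val, hw, hX, ← M3.mat_mul, ← he, M3.mat_mul]
    rfl
  rw [e2, mul_inv_cancel_right, mem_H_iff]
  exact ⟨x, hx, by rw [evalWord_val, hw]⟩

theorem closure_eq_top : H ⊔ Subgroup.closure {E0, E1} = ⊤ := by
  set K := H ⊔ Subgroup.closure {E0, E1} with hK
  have h0 : E0 ∈ K := Subgroup.mem_sup_right (Subgroup.subset_closure (by simp))
  have h1 : E1 ∈ K := Subgroup.mem_sup_right (Subgroup.subset_closure (by simp))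
  have hHK : H ≤ K := le_sup_left
  have m := Subgroup.card_mul_index (H.subgroupOf K)
  rw [Nat.card_congr (Subgroup.subgroupOfEquivOfLe hHK).toEquiv, card_H] at m
  have h3 : 3 ≤ (H.subgroupOf K).index := by
    let f : Fin 3 → ↥K ⧸ H.subgroupOf K :=
      fun i => QuotientGroup.mk (![(1 : ↥K), ⟨E0, h0⟩, ⟨E1, h1⟩] i)
    have n0 : E0 ∉ H := fun h => by
      obtain ⟨x, hx, he⟩ := (mem_H_iff _).1 h
      exact extra0_not (M3.mat_inj (he : extra0.mat = x.mat) ▸ hx)
    have n1 : E1 ∉ H := fun h => by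
      obtain ⟨x, hx, he⟩ := (mem_H_iff _).1 h
      exact extra1_not (M3.mat_inj (he : extra1.mat = x.mat) ▸ hx)
    have n01 : E0⁻¹ * E1 ∉ H := fun h => by
      obtain ⟨x, hx, he⟩ := (mem_H_iff _).1 h
      apply extra01_not x hx
      apply M3.mat_inj
      rw [M3.mat_mul, ← he, show extra0.mat = val E0 from rfl, ← val_mul, mul_inv_cancel_left]
      rfl
    have n01' : E1⁻¹ * E0 ∉ H := fun h => n01 (by simpa using H.inv_mem h)
    have hf : Function.Injective f := by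
      intro i j hij
      simp only [f, QuotientGroup.eq, Subgroup.mem_subgroupOf] at hij
      fin_cases i <;> fin_cases j <;> simp_all
    have := Nat.card_le_card_of_injective f hf
    rwa [Nat.card_fin] at this
  have hd : Nat.card ↥K ∣ 216 := card_SU4 ▸ Subgroup.card_subgroup_dvd_card K
  rw [← m] at hd
  have h4 : (H.subgroupOf K).index = 4 := by
    have hd' : (H.subgroupOf K).index ∣ 4 := Nat.dvd_of_mul_dvd_mul_left (by norm_num : 0 < 54) hd
    have hle := Nat.le_of_dvd (by norm_num) hd'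
    rcases (show (H.subgroupOf K).index = 3 ∨ (H.subgroupOf K).index = 4 by omega) with h | h
    · rw [h] at hd'; norm_num at hd'
    · exact h
  apply Subgroup.eq_top_of_card_eq
  rw [← m, h4, card_SU4]

instance H_normal : H.Normal := by
  rw [← Subgroup.normalizer_eq_top_iff, eq_top_iff, ← closure_eq_top, sup_le_iff,
    Subgroup.closure_le, Set.insert_subset_iff, Set.singleton_subset_iff]
  exact ⟨Subgroup.le_normalizer, conj_mem E0 extra0 rfl extra_conj, conj_mem E1 extra1 rfl extra_conj1⟩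

/-- Certificate for the generator 0. -/
def cl0 : M3 := ⟨.o, .w, .w, .o, .w2, .o, .w, .w, .o⟩
/-- Certificate for the generator 0. -/
def cr0 : M3 := ⟨.o, .w2, .w2, .o, .w, .o, .w2, .w2, .o⟩

theorem T0_comm : T 0 ∈ commutator SU4 := by
  let p : SU4 := mk cl0 (by decide +kernel) (by rw [det_fin]; decide +kernel)
  let q : SU4 := mk cr0 (by decide +kernel) (by rw [det_fin]; decide +kernel)
  have h : T 0 = ⁅p, q⁆ := by
    rw [commutatorElement_def, eq_mul_inv_iff_mul_eq, eq_mul_inv_iff_mul_eq]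
    apply val_inj
    rw [val_mul, val_mul, val_mul]
    show (gen 0).mat * cr0.mat * cl0.mat = cl0.mat * cr0.mat
    rw [← M3.mat_mul, ← M3.mat_mul, ← M3.mat_mul]
    exact congrArg M3.mat (by decide +kernel)
  rw [h]
  exact Subgroup.commutator_mem_commutator (Subgroup.mem_top _) (Subgroup.mem_top _)

/-- Certificate for the generator 1. -/
def cl1 : M3 := ⟨.o, .o, .w, .o, .w, .o, .w2, .w, .w⟩
/-- Certificate for the generator 1. -/
def cr1 : M3 := ⟨.o, .w2, .o, .w, .w, .o, .o, .w, .w⟩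

theorem T1_comm : T 1 ∈ commutator SU4 := by
  let p : SU4 := mk cl1 (by decide +kernel) (by rw [det_fin]; decide +kernel)
  let q : SU4 := mk cr1 (by decide +kernel) (by rw [det_fin]; decide +kernel)
  have h : T 1 = ⁅p, q⁆ := by
    rw [commutatorElement_def, eq_mul_inv_iff_mul_eq, eq_mul_inv_iff_mul_eq]
    apply val_inj
    rw [val_mul, val_mul, val_mul]
    show (gen 1).mat * cr1.mat * cl1.mat = cl1.mat * cr1.mat
    rw [← M3.mat_mul, ← M3.mat_mul, ← M3.mat_mul]
    exact congrArg M3.mat (by decide +kernel)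
  rw [h]
  exact Subgroup.commutator_mem_commutator (Subgroup.mem_top _) (Subgroup.mem_top _)

/-- Certificate for the generator 2. -/
def cl2 : M3 := ⟨.o, .w, .w, .w, .o, .w, .o, .o, .w2⟩
/-- Certificate for the generator 2. -/
def cr2 : M3 := ⟨.o, .w, .o, .w, .o, .o, .w, .w, .w2⟩

theorem T2_comm : T 2 ∈ commutator SU4 := by
  let p : SU4 := mk cl2 (by decide +kernel) (by rw [det_fin]; decide +kernel)
  let q : SU4 := mk cr2 (by decide +kernel) (by rw [det_fin]; decide +kernel)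
  have h : T 2 = ⁅p, q⁆ := by
    rw [commutatorElement_def, eq_mul_inv_iff_mul_eq, eq_mul_inv_iff_mul_eq]
    apply val_inj
    rw [val_mul, val_mul, val_mul]
    show (gen 2).mat * cr2.mat * cl2.mat = cl2.mat * cr2.mat
    rw [← M3.mat_mul, ← M3.mat_mul, ← M3.mat_mul]
    exact congrArg M3.mat (by decide +kernel)
  rw [h]
  exact Subgroup.commutator_mem_commutator (Subgroup.mem_top _) (Subgroup.mem_top _)

theorem T_comm (i : Fin 3) : T i ∈ commutator SU4 := by
  fin_cases i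
  · exact T0_comm
  · exact T1_comm
  · exact T2_comm


theorem commutator_eq : commutator SU4 = H := by
  refine le_antisymm ?_ ?_
  · have hq : Nat.card (SU4 ⧸ H) = 2 ^ 2 := by
      have m := Subgroup.card_eq_card_quotient_mul_card_subgroup H
      rw [card_SU4, card_H] at m
      omega
    have : Fact (Nat.Prime 2) := ⟨Nat.prime_two⟩
    rw [commutator_def, Subgroup.commutator_le]
    intro g _ h _
    rw [← QuotientGroup.eq_one_iff]
    show QuotientGroup.mk' H ⁅g, h⁆ = 1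
    rw [map_commutatorElement, commutatorElement_eq_one_iff_mul_comm]
    exact (IsPGroup.isMulCommutative_of_card_eq_prime_sq hq).is_comm.comm _ _
  · rw [H, Subgroup.closure_le]
    rintro _ ⟨i, rfl⟩
    exact T_comm i

theorem T_rel : ∀ i j : Fin 3, i ≠ j →
    M3.mul (M3.mul (gen i) (gen j)) (M3.mul (gen i) (gen j)) ≠ M3.unit := by decide +kernel

theorem T_rel3 :
    M3.mul (M3.mul (gen 2) (M3.mul (M3.mul (gen 0) (gen 1)) (gen 0)))
      (M3.mul (gen 2) (M3.mul (M3.mul (gen 0) (gen 1)) (gen 0))) ≠ M3.unit := by decide +kernel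

/-- The map of SU induced by an isomorphism of the fields. -/
def suMap {n q : ℕ} {K F : Type*} [Field K] [Field F] (e : K ≃+* F) :
    ↥(Cfsg.SU n K q) →* ↥(Cfsg.SU n F q) :=
  ((Matrix.SpecialLinearGroup.map e.toRingHom).comp (Cfsg.SU n K q).subtype).codRestrict _ (by
    intro g
    rw [Unitary.mem_SU_iff]
    intro u v
    have h := Unitary.SU_apply g (fun i => e.symm (u i)) (fun i => e.symm (v i))
    have hmv : ∀ w : Fin n → F,
        (((g : Matrix.SpecialLinearGroup (Fin n) K) : Matrix (Fin n) (Fin n) K).map e) *ᵥ w =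
          fun i => e ((((g : Matrix.SpecialLinearGroup (Fin n) K) : Matrix (Fin n) (Fin n) K) *ᵥ
            fun j => e.symm (w j)) i) := by
      intro w
      funext i
      simp [Matrix.mulVec, dotProduct, map_sum]
    have h' := congrArg e h
    simp only [Cfsg.hermForm, map_sum, map_mul, map_pow, e.apply_symm_apply] at h'
    show Cfsg.hermForm n F q ((((g : Matrix.SpecialLinearGroup (Fin n) K) :
      Matrix (Fin n) (Fin n) K).map e) *ᵥ u) ((((g : Matrix.SpecialLinearGroup (Fin n) K) :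
      Matrix (Fin n) (Fin n) K).map e) *ᵥ v) = _
    rw [hmv, hmv]
    exact h')

/-- SU only depends on the field up to isomorphism. -/
def suEquiv {n q : ℕ} {K F : Type*} [Field K] [Field F] (e : K ≃+* F) :
    ↥(Cfsg.SU n K q) ≃* ↥(Cfsg.SU n F q) where
  toFun := suMap e
  invFun := suMap e.symm
  left_inv g := by
    apply Subtype.ext; apply Subtype.ext; ext i j
    simp [suMap]
  right_inv g := by
    apply Subtype.ext; apply Subtype.ext; ext i j
    simp [suMap]
  map_mul' := map_mul _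

/-- The derived subgroup of SU_3(2): order 54, generated by three suitable involutions. -/
theorem derived_su32 {F : Type*} [Field F] [Fintype F] (hF : Fintype.card F = 4) :
    Nat.card ↥(commutator ↥(Cfsg.SU 3 F 2)) = 54 ∧
      ∃ a b c : ↥(commutator ↥(Cfsg.SU 3 F 2)),
        a * a = 1 ∧ b * b = 1 ∧ c * c = 1 ∧ Subgroup.closure {a, b, c} = ⊤ ∧
        (a * b) ^ 2 ≠ 1 ∧ (a * c) ^ 2 ≠ 1 ∧ (b * c) ^ 2 ≠ 1 ∧ (c * (a * b * a)) ^ 2 ≠ 1 := by
  let Φ : SU4 ≃* ↥(Cfsg.SU 3 F 2) := suEquiv (FiniteField.ringEquivOfCardEq (hF ▸ K4.card_eq))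
  have hmap : H.map (Φ : SU4 →* ↥(Cfsg.SU 3 F 2)) = commutator ↥(Cfsg.SU 3 F 2) := by
    rw [← commutator_eq, commutator_def, commutator_def, Subgroup.map_commutator,
      Subgroup.map_top_of_surjective (Φ : SU4 →* ↥(Cfsg.SU 3 F 2)) Φ.surjective]
  let ψ : ↥H ≃* ↥(commutator ↥(Cfsg.SU 3 F 2)) :=
    (H.equivMapOfInjective _ Φ.injective).trans (MulEquiv.subgroupCongr hmap)
  have hc : Nat.card ↥(commutator ↥(Cfsg.SU 3 F 2)) = 54 := by
    rw [← Nat.card_congr ψ.toEquiv, card_H]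
  let U : Fin 3 → ↥H := fun i => ⟨T i, T_mem i⟩
  have hne : ∀ x : ↥H, ∀ y : M3, val (x : SU4) = y.mat → M3.mul y y ≠ M3.unit → ψ x ^ 2 ≠ 1 := by
    intro x y hxy hy h
    rw [← map_pow, map_eq_one_iff _ ψ.injective, pow_two] at h
    apply hy
    apply M3.mat_inj
    rw [M3.mat_mul, M3.mat_unit, ← hxy, ← val_mul, ← val_one]
    exact congrArg (fun z : ↥H => val (z : SU4)) h
  have hsq : ∀ i, ψ (U i) * ψ (U i) = 1 := fun i => by
    rw [← map_mul, ← map_one ψ]
    exact congrArg ψ (Subtype.ext (T_sq i))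
  have htop : Subgroup.closure (Set.range U) = ⊤ := by
    apply Subgroup.map_injective H.subtype_injective
    rw [MonoidHom.map_closure, ← Set.range_comp, ← MonoidHom.range_eq_map, Subgroup.range_subtype]
    rfl
  refine ⟨hc, ψ (U 0), ψ (U 1), ψ (U 2), hsq 0, hsq 1, hsq 2, ?_, ?_, ?_, ?_, ?_⟩
  · have h := congrArg (Subgroup.map ψ.toMonoidHom) htop
    rw [MonoidHom.map_closure, Subgroup.map_top_of_surjective _ ψ.surjective, ← Set.range_comp] at h
    convert h using 2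
    ext x
    simp only [Set.mem_insert_iff, Set.mem_singleton_iff, Set.mem_range, Fin.exists_fin_succ,
      IsEmpty.exists_iff, or_false, Function.comp_apply]
    refine ⟨?_, ?_⟩
    · rintro (rfl | rfl | rfl)
      · exact Or.inl rfl
      · exact Or.inr (Or.inl rfl)
      · exact Or.inr (Or.inr rfl)
    · rintro (rfl | rfl | rfl)
      · exact Or.inl rfl
      · exact Or.inr (Or.inl rfl)
      · exact Or.inr (Or.inr rfl)
  · rw [← map_mul]
    exact hne _ (M3.mul (gen 0) (gen 1)) (M3.mat_mul _ _).symm (T_rel 0 1 (by decide))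
  · rw [← map_mul]
    exact hne _ (M3.mul (gen 0) (gen 2)) (M3.mat_mul _ _).symm (T_rel 0 2 (by decide))
  · rw [← map_mul]
    exact hne _ (M3.mul (gen 1) (gen 2)) (M3.mat_mul _ _).symm (T_rel 1 2 (by decide))
  · rw [← map_mul, ← map_mul, ← map_mul]
    refine hne _ (M3.mul (gen 2) (M3.mul (M3.mul (gen 0) (gen 1)) (gen 0))) ?_ T_rel3
    rw [M3.mat_mul, M3.mat_mul, M3.mat_mul]
    rfl

end Cfsg.Agent.SU32
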