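/-
The derived subgroup of SU_3(2) with its defining relations as a group of width one.
Main result: derived_su32_cubes: it has order 54 and is generated by three involutions a, b, c
with (ab)^3, (ac)^3, (bc)^3, (c*aba)^3 equal to 1.
-/
import Cfsg.Agent.Lib.SU32.Basic

set_option autoImplicit false
open Cfsg
open scoped commutatorElement Matrix

namespace Cfsg.Agent.SU32

theorem gen_cubes : (∀ i j : Fin 3, M3.mul (M3.mul (M3.mul (gen i) (gen j)) (M3.mul (gen i) (gen j)))
      (M3.mul (gen i) (gen j)) = M3.unit) ∧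
    M3.mul (M3.mul (M3.mul (gen 2) (M3.mul (M3.mul (gen 0) (gen 1)) (gen 0)))
      (M3.mul (gen 2) (M3.mul (M3.mul (gen 0) (gen 1)) (gen 0))))
      (M3.mul (gen 2) (M3.mul (M3.mul (gen 0) (gen 1)) (gen 0))) = M3.unit := by
  decide +kernel

theorem pow_three_of_val {g : SU4} {y : M3} (h : val g = y.mat)
    (hy : M3.mul (M3.mul y y) y = M3.unit) : g ^ 3 = 1 := by
  apply val_inj
  rw [pow_succ, pow_two, val_mul, val_mul, h, ← M3.mat_mul, ← M3.mat_mul, hy, M3.mat_unit, val_one]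

/-- The derived subgroup of SU_3(2) as a group of width one on three generators. -/
theorem derived_su32_cubes {F : Type*} [Field F] [Fintype F] (hF : Fintype.card F = 4) :
    Nat.card ↥(commutator ↥(Cfsg.SU 3 F 2)) = 54 ∧
      ∃ a b c : ↥(commutator ↥(Cfsg.SU 3 F 2)),
        a * a = 1 ∧ b * b = 1 ∧ c * c = 1 ∧ Subgroup.closure {a, b, c} = ⊤ ∧
        (a * b) ^ 3 = 1 ∧ (a * c) ^ 3 = 1 ∧ (b * c) ^ 3 = 1 ∧ (c * (a * b * a)) ^ 3 = 1 := by
  let Φ : SU4 ≃* ↥(Cfsg.SU 3 F 2) := suEquiv (FiniteField.ringEquivOfCardEq (hF ▸ K4.card_eq))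
  have hmap : H.map (Φ : SU4 →* ↥(Cfsg.SU 3 F 2)) = commutator ↥(Cfsg.SU 3 F 2) := by
    rw [← commutator_eq, commutator_def, commutator_def, Subgroup.map_commutator,
      Subgroup.map_top_of_surjective (Φ : SU4 →* ↥(Cfsg.SU 3 F 2)) Φ.surjective]
  let ψ : ↥H ≃* ↥(commutator ↥(Cfsg.SU 3 F 2)) :=
    (H.equivMapOfInjective _ Φ.injective).trans (MulEquiv.subgroupCongr hmap)
  have hc : Nat.card ↥(commutator ↥(Cfsg.SU 3 F 2)) = 54 := by
    rw [← Nat.card_congr ψ.toEquiv, card_H]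
  let U : Fin 3 → ↥H := fun i => ⟨T i, T_mem i⟩
  have hsq : ∀ i, ψ (U i) * ψ (U i) = 1 := fun i => by
    rw [← map_mul, ← map_one ψ]
    exact congrArg ψ (Subtype.ext (T_sq i))
  have hcube : ∀ (x : ↥H) (y : M3), val (x : SU4) = y.mat →
      M3.mul (M3.mul y y) y = M3.unit → ψ x ^ 3 = 1 := fun x y h hy => by
    rw [← map_pow, show x ^ 3 = 1 from Subtype.ext (pow_three_of_val h hy), map_one]
  have htop : Subgroup.closure (Set.range U) = ⊤ := by
    apply Subgroup.map_injective H.subtype_injective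
    rw [MonoidHom.map_closure, ← Set.range_comp, ← MonoidHom.range_eq_map, Subgroup.range_subtype]
    rfl
  refine ⟨hc, ψ (U 0), ψ (U 1), ψ (U 2), hsq 0, hsq 1, hsq 2, ?_, ?_, ?_, ?_, ?_⟩
  · have h := congrArg (Subgroup.map ψ.toMonoidHom) htop
    rw [MonoidHom.map_closure, Subgroup.map_top_of_surjective _ ψ.surjective, ← Set.range_comp] at h
    convert h using 2
    ext x
    simp only [Set.mem_insert_iff, Set.mem_singleton_iff, Set.mem_range, Fin.exists_fin_succ,
      IsEmpty.exists_iff, or_false, Function.comp_apply]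
    refine ⟨?_, ?_⟩
    · rintro (rfl | rfl | rfl)
      · exact Or.inl rfl
      · exact Or.inr (Or.inl rfl)
      · exact Or.inr (Or.inr rfl)
    · rintro (rfl | rfl | rfl)
      · exact Or.inl rfl
      · exact Or.inr (Or.inl rfl)
      · exact Or.inr (Or.inr rfl)
  · rw [← map_mul]
    exact hcube _ _ (M3.mat_mul _ _).symm (gen_cubes.1 0 1)
  · rw [← map_mul]
    exact hcube _ _ (M3.mat_mul _ _).symm (gen_cubes.1 0 2)
  · rw [← map_mul]
    exact hcube _ _ (M3.mat_mul _ _).symm (gen_cubes.1 1 2)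
  · rw [← map_mul, ← map_mul, ← map_mul]
    refine hcube _ (M3.mul (gen 2) (M3.mul (M3.mul (gen 0) (gen 1)) (gen 0))) ?_ gen_cubes.2
    rw [M3.mat_mul, M3.mat_mul, M3.mat_mul]
    rfl

end Cfsg.Agent.SU32
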