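/-
Faithful modules in characteristic two for a group P<a>, P a 3-group of index two, in which products of
involutions have cubes one.
Main result: Hyp.classify: the group is Sym(3) or is generated by three involutions as in derived_su32_cubes.
-/
import Cfsg.Agent.EqLemmas

set_option autoImplicit false
open Cfsg
open scoped commutatorElement

namespace Cfsg.Agent.SU32

theorem two_torsion {V : Type*} [AddCommGroup V] [Module (ZMod 2) V] (v : V) : v + v = 0 := by
  rw [← two_smul (ZMod 2) v, show (2 : ZMod 2) = 0 from rfl, zero_smul]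

/-- Fixed points of the four lines of an elementary abelian group of order nine. -/
theorem four_lines {V : Type*} [AddCommGroup V] (h2 : ∀ v : V, v + v = 0) (R S T : V →+ V)
    (hS : ∀ v, S (S (S v)) = v) (hT : ∀ v, T (T (T v)) = v) (hST : ∀ v, S (T v) = T (S v))
    (r1 : ∀ v, S v = v → R v = v) (r2 : ∀ v, T v = v → R v = v)
    (r3 : ∀ v, S (T v) = v → R v = v) (r4 : ∀ v, S (T (T v)) = v → R v = v) :
    ∀ v, R v = v := by
  intro v
  let N : (V → V) → V → V := fun f w => w + f w + f (f w)
  have hNS : ∀ w, S (N S w) = N S w := fun w => by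
    simp only [N, map_add, hS]; abel
  have hNT : ∀ w, T (N T w) = N T w := fun w => by
    simp only [N, map_add, hT]; abel
  have hN3 : ∀ w, S (T (N (fun x => S (T x)) w)) = N (fun x => S (T x)) w := fun w => by
    have h : ∀ x, S (T (S (T (S (T x))))) = x := fun x => by
      simp only [← hST]
      rw [hS, hT]
    simp only [N, map_add, h]; abel
  have hN4 : ∀ w, S (T (T (N (fun x => S (T (T x))) w))) = N (fun x => S (T (T x))) w := fun w => by
    have h : ∀ x, S (T (T (S (T (T (S (T (T x)))))))) = x := fun x => by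
      simp only [← hST]
      rw [hS, hT, hT]
    simp only [N, map_add, h]; abel
  have e : v = N S (N T v) + N S v + N T v + N (fun x => S (T x)) v +
      N (fun x => S (T (T x))) v := by
    simp only [N, map_add, ← hST, hT]
    symm
    calc _ = v + ((v + v + T v + T (T v) + S v + S (T v) + S (T (T v)) + S (S v) + S (S (T v)) + S (S (T (T v)))) +
          (v + v + T v + T (T v) + S v + S (T v) + S (T (T v)) + S (S v) + S (S (T v)) + S (S (T (T v))))) -
          (v + v) + (v + v) - (v + v) + (v + v) := by abel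
      _ = v := by simp only [h2, add_zero, sub_zero]
  rw [e, map_add, map_add, map_add, map_add, r1 _ (hNS _), r1 _ (hNS _), r2 _ (hNT _), r3 _ (hN3 _),
    r4 _ (hN4 _)]

/-- The situation of the module. -/
structure Hyp {G V : Type*} [Group G] [AddCommGroup V] [Module (ZMod 2) V]
    (ρ : G →* Module.End (ZMod 2) V) (P : Subgroup G) (a : G) : Prop where
  fin : Finite G
  inj : Function.Injective ρ
  pgroup : IsPGroup 3 P
  index : P.index = 2
  sq : a * a = 1
  nmem : a ∉ P
  gen : Subgroup.closure {d : G | d * d = 1 ∧ d ∉ P} = ⊤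
  cube : ∀ d e : G, d * d = 1 → d ∉ P → e * e = 1 → e ∉ P → (d * e) ^ 3 = 1
  fixed : ∀ d e : G, d * d = 1 → d ∉ P → e * e = 1 → e ∉ P → d ≠ e →
    ∀ v, ρ (d * e) v = v → ρ d v = v
  two : ∃ d : G, d * d = 1 ∧ d ∉ P ∧ d ≠ a

namespace Hyp

variable {G V : Type*} [Group G] [AddCommGroup V] [Module (ZMod 2) V]
  {ρ : G →* Module.End (ZMod 2) V} {P : Subgroup G} {a : G}

/-- The elements of `P` inverted by `a`. -/
def Inv (P : Subgroup G) (a k : G) : Prop := k ∈ P ∧ a * k * a = k⁻¹

theorem act (g h : G) (v : V) : ρ (g * h) v = ρ g (ρ h v) := by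
  rw [map_mul, Module.End.mul_apply]

theorem act_inv {g : G} {v : V} (h : ρ g v = v) : ρ g⁻¹ v = v := by
  conv_lhs => rw [← h, ← act, inv_mul_cancel, map_one, Module.End.one_apply]

theorem commute_three {s t : G} (hs : s ^ 3 = 1) (h : Commute s ⁅s, t⁆) : ⁅s, t⁆ ^ 3 = 1 := by
  have h1 : ∀ n : ℕ, s ^ n * t * (s ^ n)⁻¹ = ⁅s, t⁆ ^ n * t := by
    intro n
    induction n with
    | zero => simp
    | succ n ih =>
      calc s ^ (n + 1) * t * (s ^ (n + 1))⁻¹ = s * (s ^ n * t * (s ^ n)⁻¹) * s⁻¹ := by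
            rw [pow_succ']; group
        _ = s * (⁅s, t⁆ ^ n * t) * s⁻¹ := by rw [ih]
        _ = ⁅s, t⁆ ^ n * (s * t * s⁻¹) := by
            rw [← mul_assoc s, (h.pow_right n).eq]; group
        _ = ⁅s, t⁆ ^ (n + 1) * t := by rw [pow_succ, commutatorElement_def]; group
  have := h1 3
  rw [hs] at this
  simpa using this.symm

variable (h : Hyp ρ P a)
include h

theorem ainv : a⁻¹ = a := inv_eq_of_mul_eq_one_right h.sq

theorem aa (x : G) : a * (a * x) = x := by rw [← mul_assoc, h.sq, one_mul]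

theorem cj_mul (x y : G) : a * (x * y) * a = a * x * a * (a * y * a) := by
  simp only [mul_assoc, h.aa]

theorem cj_inv (x : G) : a * x⁻¹ * a = (a * x * a)⁻¹ := by
  simp only [mul_inv_rev, h.ainv, mul_assoc]

theorem cj_cj (x : G) : a * (a * x * a) * a = x := by
  simp only [mul_assoc, h.aa, h.sq, mul_one]

theorem cj_comm (x y : G) : a * ⁅x, y⁆ * a = ⁅a * x * a, a * y * a⁆ := by
  simp only [commutatorElement_def, h.cj_mul, h.cj_inv]

theorem inv_inv {k : G} (hk : Inv P a k) : Inv P a k⁻¹ := by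
  refine ⟨P.inv_mem hk.1, ?_⟩
  rw [h.cj_inv, hk.2]

theorem inv_triple {s t : G} (hs : Inv P a s) (ht : Inv P a t) : Inv P a (t * s * t) := by
  refine ⟨P.mul_mem (P.mul_mem ht.1 hs.1) ht.1, ?_⟩
  calc a * (t * s * t) * a = (a * t * a) * (a * s * a) * (a * t * a) := by
        simp only [mul_assoc]; simp only [← mul_assoc a a, h.sq, one_mul]
    _ = (t * s * t)⁻¹ := by rw [hs.2, ht.2]; group

theorem invol {k : G} (hk : Inv P a k) : (a * k) * (a * k) = 1 ∧ a * k ∉ P :=
  ⟨by rw [← mul_assoc (a * k), hk.2, inv_mul_cancel],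
    fun hc => h.nmem ((P.mul_mem_cancel_right hk.1).1 hc)⟩

theorem inv_cube {k : G} (hk : Inv P a k) : k ^ 3 = 1 := by
  have := h.cube a (a * k) h.sq h.nmem (h.invol hk).1 (h.invol hk).2
  rwa [← mul_assoc, h.sq, one_mul] at this

theorem inv_of_invol {d : G} (hd : d * d = 1) (hdP : d ∉ P) : Inv P a (d * a) := by
  refine ⟨(Subgroup.mul_mem_iff_of_index_two h.index).2 ⟨fun x => absurd x hdP, fun x => absurd x h.nmem⟩, ?_⟩
  rw [mul_inv_rev, inv_eq_of_mul_eq_one_right hd, inv_eq_of_mul_eq_one_right h.sq]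
  simp only [mul_assoc, h.sq, mul_one]

theorem gen_le {K : Subgroup G} (haK : a ∈ K) (hK : ∀ k, Inv P a k → k ∈ K) : K = ⊤ := by
  rw [eq_top_iff, ← h.gen, Subgroup.closure_le]
  rintro d ⟨hd, hdP⟩
  have := K.mul_mem (hK _ (h.inv_of_invol hd hdP)) haK
  rwa [mul_assoc, h.sq, mul_one] at this

/-- An element of `P` commuting with the inverted elements is central in `P`. -/
theorem central {k : G} (hk : ∀ x, Inv P a x → Commute k x) {p : G} (hp : p ∈ P) :
    Commute k p := by
  set J := Subgroup.closure {x : G | Inv P a x} with hJ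
  have hnorm : a ∈ Subgroup.normalizer (J : Set G) := by
    have hconj : ∀ x ∈ J, a * x * a ∈ J := by
      intro x hx
      induction hx using Subgroup.closure_induction with
      | mem x hx => rw [hx.2]; exact J.inv_mem (Subgroup.subset_closure hx)
      | one => simp [h.sq]
      | mul x y _ _ hx hy =>
        convert J.mul_mem hx hy using 1
        simp only [mul_assoc]; simp only [← mul_assoc a a, h.sq, one_mul]
      | inv x _ hx =>
        convert J.inv_mem hx using 1
        simp only [mul_inv_rev, inv_eq_of_mul_eq_one_right h.sq, mul_assoc]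
    rw [Subgroup.mem_normalizer_iff, inv_eq_of_mul_eq_one_right h.sq]
    refine fun x => ⟨hconj x, fun hx => ?_⟩
    have := hconj _ hx
    simpa [mul_assoc, h.sq, ← mul_assoc a a] using this
  let K : Subgroup G :=
    { carrier := {g | g ∈ J ∨ g * a ∈ J}
      one_mem' := Or.inl J.one_mem
      mul_mem' := by
        intro x y hx hy
        have hn := Subgroup.mem_normalizer_iff.1 hnorm
        rw [inv_eq_of_mul_eq_one_right h.sq] at hn
        rcases hx with hx | hx <;> rcases hy with hy | hy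
        · exact Or.inl (J.mul_mem hx hy)
        · exact Or.inr (by rw [mul_assoc]; exact J.mul_mem hx hy)
        · refine Or.inr ?_
          have := J.mul_mem hx ((hn _).1 hy)
          convert this using 1
          simp only [mul_assoc]; simp only [← mul_assoc a a, h.sq, one_mul]
        · refine Or.inl ?_
          have := J.mul_mem hx ((hn _).1 hy)
          convert this using 1
          simp only [mul_assoc]; simp only [← mul_assoc a a, h.sq, one_mul, mul_one]
      inv_mem' := by
        intro x hx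
        rcases hx with hx | hx
        · exact Or.inl (J.inv_mem hx)
        · refine Or.inr ?_
          have hn := Subgroup.mem_normalizer_iff.1 hnorm
          rw [inv_eq_of_mul_eq_one_right h.sq] at hn
          have := (hn _).1 (J.inv_mem hx)
          convert this using 1
          simp only [mul_inv_rev, inv_eq_of_mul_eq_one_right h.sq, mul_assoc]
          simp only [← mul_assoc a a, h.sq, one_mul] }
  have hK : K = ⊤ := h.gen_le (Or.inr (by rw [h.sq]; exact J.one_mem))
    fun x hx => Or.inl (Subgroup.subset_closure hx)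
  have hJP : J ≤ P := (Subgroup.closure_le _).2 fun x hx => hx.1
  have hpJ : p ∈ J := by
    rcases (hK ▸ Subgroup.mem_top p : p ∈ K) with hp' | hp'
    · exact hp'
    · exact absurd ((P.mul_mem_cancel_left hp).1 (hJP hp')) h.nmem
  clear hK K hnorm
  induction hpJ using Subgroup.closure_induction with
  | mem x hx => exact hk x hx
  | one => exact Commute.one_right k
  | mul x y hx _ hx' hy' => exact (hx' (hJP hx)).mul_right (hy' (hJP ‹_›))
  | inv x hx hx' => exact (hx' (hJP hx)).inv_right

/-- If the commutator `z` of `s`, `t` commutes with both, then a vector fixed by `s` and `z`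
is fixed by `t`. -/
theorem lemL {s t z : G} (hs : Inv P a s) (ht : Inv P a t) (hs1 : s ≠ 1) (hz : ⁅s, t⁆ = z)
    (zs : Commute z s) (zt : Commute z t) {v : V} (vs : ρ s v = v) (vz : ρ z v = v) :
    ρ t v = v := by
  have hz3 : z ^ 3 = 1 := hz ▸ commute_three (h.inv_cube hs) (hz ▸ zs.symm)
  have hza : a * z * a = z := by
    have h1 : a * z * a = ⁅s⁻¹, t⁻¹⁆ := by rw [← hz, h.cj_comm, hs.2, ht.2]
    rw [h1]
    calc ⁅s⁻¹, t⁻¹⁆ = (s⁻¹ * t⁻¹) * z * (t * s) := by
          rw [← hz, commutatorElement_def, commutatorElement_def]; group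
      _ = z := by
          rw [((zs.inv_right).mul_right zt.inv_right).symm.eq]; group
  have hsne : s ≠ s⁻¹ := fun he => hs1 (by
    have := h.inv_cube hs
    rw [pow_succ, pow_two, show s * s = 1 by nth_rw 1 [he]; exact inv_mul_cancel s, one_mul] at this
    exact this)
  have va : ρ a v = v := by
    refine h.fixed a (a * s) h.sq h.nmem (h.invol hs).1 (h.invol hs).2
      (fun he => hs1 (mul_left_cancel (he.symm.trans (mul_one a).symm))) v ?_
    rwa [← mul_assoc, h.sq, one_mul]
  set b := a * t with hb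
  set q := s * (z * z) with hq
  have vq : ρ q v = v := by rw [hq, act, act, vz, vz, vs]
  have hzP : z ∈ P := hz ▸ by
    rw [commutatorElement_def]
    exact P.mul_mem (P.mul_mem (P.mul_mem hs.1 ht.1) (P.inv_mem hs.1)) (P.inv_mem ht.1)
  have hqP : q ∈ P := P.mul_mem hs.1 (P.mul_mem hzP hzP)
  have hbs : b * s * b = s⁻¹ * z⁻¹ := by
    have h1 : b * s * b = t⁻¹ * s⁻¹ * t := by
      rw [hb, ← hs.2, ← ht.2]
      simp only [mul_assoc, h.aa]
    have h2 : t⁻¹ * z * t = z := by rw [mul_assoc, zt.eq, inv_mul_cancel_left]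
    have h3 : t * s⁻¹ * t⁻¹ = s⁻¹ * z := by rw [← hz, commutatorElement_def]; group
    calc b * s * b = t⁻¹ * ((s⁻¹ * z) * z⁻¹) * t := by rw [h1]; group
      _ = t⁻¹ * (t * s⁻¹ * t⁻¹) * t * (t⁻¹ * z⁻¹ * t) := by rw [h3]; group
      _ = s⁻¹ * (t⁻¹ * z * t)⁻¹ := by group
      _ = _ := by rw [h2]
  have hbz : b * z * b = z := by
    have h1 : b * z * b = (a * t * a) * (a * z * a) * t := by
      rw [hb]; simp only [mul_assoc]; simp only [← mul_assoc a a, h.sq, one_mul]
    rw [h1, hza, ht.2, mul_assoc, zt.eq, inv_mul_cancel_left]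
  have hbb : b * b = 1 := (h.invol ht).1
  have hbq : b * q * b = q⁻¹ := by
    calc b * q * b = (b * s * b) * (b * z * b) * (b * z * b) := by
          rw [hq]; simp only [mul_assoc]; simp only [← mul_assoc b b, hbb, one_mul]
      _ = s⁻¹ * z := by rw [hbs, hbz]; group
      _ = _ := by
          rw [hq, mul_inv_rev, mul_inv_rev]
          have hzz : z⁻¹ * z⁻¹ = z := by
            rw [← mul_inv_rev]; exact inv_eq_of_mul_eq_one_right (by rw [← hz3, pow_succ, pow_two])
          rw [hzz, (zs.inv_right).eq]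
  have hq1 : q ≠ 1 := by
    intro he
    have hsz : s = z := by
      calc s = q * (z * z)⁻¹ := by rw [hq]; group
        _ = (z * z)⁻¹ := by rw [he, one_mul]
        _ = z := inv_eq_of_mul_eq_one_right (by rw [← hz3, pow_succ, pow_two])
    exact hsne (by rw [← hs.2, hsz, hza])
  have vb : ρ b v = v := by
    refine h.fixed b (b * q) hbb (h.invol ht).2 ?_
      (fun hc => (h.invol ht).2 ((P.mul_mem_cancel_right hqP).1 hc))
      (fun he => hq1 (mul_left_cancel (he.symm.trans (mul_one b).symm))) v ?_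
    · rw [← mul_assoc (b * q), hbq, inv_mul_cancel]
    · rwa [← mul_assoc, hbb, one_mul]
  have : t = a * b := by rw [hb, ← mul_assoc, h.sq, one_mul]
  rw [this, act, vb, va]

/-- If `z = [s, t]` commutes with both and the four lines are nondegenerate, the fixed space of `z`
is fixed by `s`. -/
theorem lemM {s t z : G} (hs : Inv P a s) (ht : Inv P a t) (ht1 : t ≠ 1) (h31 : t * s * t ≠ 1)
    (h41 : t⁻¹ * s * t⁻¹ ≠ 1) (hz : ⁅s, t⁆ = z) (zs : Commute z s) (zt : Commute z t) {v : V}
    (vz : ρ z v = v) : ρ s v = v := by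
  let W : AddSubgroup V := AddMonoidHom.eqLocus (ρ z).toAddMonoidHom (AddMonoidHom.id V)
  have hW : ∀ g : G, Commute z g → ∀ w ∈ W, (ρ g).toAddMonoidHom w ∈ W := fun g hg w hw => by
    show ρ z (ρ g w) = ρ g w
    rw [← act, hg.eq, act]
    exact congrArg (ρ g) hw
  let res : ∀ g : G, Commute z g → W →+ W := fun g hg =>
    AddMonoidHom.mk' (fun w => ⟨ρ g w.1, hW g hg _ w.2⟩) fun x y => Subtype.ext (map_add (ρ g) x.1 y.1)
  have hW' : ∀ w : W, ρ z w.1 = w.1 := fun w => w.2
  have cube' : ∀ g : G, g ^ 3 = 1 → ∀ w : V, ρ g (ρ g (ρ g w)) = w := fun g hg w => by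
    rw [← act, ← act, show g * g * g = 1 by rw [← hg, pow_succ, pow_two], map_one, Module.End.one_apply]
  have h3 := h.inv_triple hs ht
  have h4 := h.inv_triple hs (h.inv_inv ht)
  have hts : t * s * t⁻¹ = z⁻¹ * s := by
    rw [← hz, commutatorElement_def]; group
  have hts' : t⁻¹ * s * t = z * s := by
    calc t⁻¹ * s * t = t⁻¹ * (z * (t * s * t⁻¹)) * t := by rw [hts]; group
      _ = z * (t⁻¹ * (t * s * t⁻¹) * t) := by
          rw [← mul_assoc, ← mul_assoc, ← zt.inv_right.eq]; group
      _ = z * s := by group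
  have hz' : ⁅t, s⁆ = z⁻¹ := by rw [← hz, commutatorElement_inv]
  have hc3 : ⁅t * s * t, s⁆ = z⁻¹ * z⁻¹ := by
    calc ⁅t * s * t, s⁆ = t * s * (t * s * t⁻¹) * s⁻¹ * t⁻¹ * s⁻¹ := by
          rw [commutatorElement_def]; group
      _ = t * (s * z⁻¹) * t⁻¹ * s⁻¹ := by rw [hts]; group
      _ = (t * z⁻¹) * s * t⁻¹ * s⁻¹ := by rw [← zs.inv_left.eq]; group
      _ = z⁻¹ * (t * s * t⁻¹) * s⁻¹ := by rw [← zt.inv_left.eq]; group
      _ = _ := by rw [hts]; group
  have hc4 : ⁅t⁻¹ * s * t⁻¹, s⁆ = z * z := by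
    calc ⁅t⁻¹ * s * t⁻¹, s⁆ = t⁻¹ * s * (t⁻¹ * s * t) * s⁻¹ * t * s⁻¹ := by
          rw [commutatorElement_def]; group
      _ = t⁻¹ * (s * z) * t * s⁻¹ := by rw [hts']; group
      _ = (t⁻¹ * z) * s * t * s⁻¹ := by rw [← zs.eq]; group
      _ = z * (t⁻¹ * s * t) * s⁻¹ := by rw [← zt.inv_right.eq]; group
      _ = _ := by rw [hts']; group
  have e3 : t * s * t = s * (t * t) * z⁻¹ := by
    calc t * s * t = (t * s * t⁻¹) * (t * t) := by group
      _ = z⁻¹ * (s * (t * t)) := by rw [hts, mul_assoc]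
      _ = _ := ((zs.mul_right (zt.mul_right zt)).inv_left).eq
  have e4 : t⁻¹ * s * t⁻¹ = s * t * z := by
    have htt : t⁻¹ * t⁻¹ = t := by
      rw [← mul_inv_rev]
      exact inv_eq_of_mul_eq_one_right (by rw [← h.inv_cube ht, pow_succ, pow_two])
    calc t⁻¹ * s * t⁻¹ = (t⁻¹ * s * t) * (t⁻¹ * t⁻¹) := by group
      _ = z * (s * t) := by rw [hts', htt, mul_assoc]
      _ = _ := (zs.mul_right zt).eq
  have key := four_lines (fun w : W => Subtype.ext (two_torsion w.1)) (res s zs) (res s zs) (res t zt)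
    (fun w => Subtype.ext (cube' s (h.inv_cube hs) w.1))
    (fun w => Subtype.ext (cube' t (h.inv_cube ht) w.1))
    (fun w => Subtype.ext (show ρ s (ρ t w.1) = ρ t (ρ s w.1) by
      rw [← act, ← act, show s * t = t * s * (s⁻¹ * t⁻¹ * s * t) by group, act]
      congr 1
      have e : s⁻¹ * t⁻¹ * s * t = z := by
        calc s⁻¹ * t⁻¹ * s * t = s⁻¹ * (t⁻¹ * s * t) := by group
          _ = z := by rw [hts', zs.eq, inv_mul_cancel_left]
      rw [e, hW']))
    (fun _ hw => hw)
    (fun w hw => Subtype.ext (by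
      have hw' : ρ t w.1 = w.1 := congrArg Subtype.val hw
      exact h.lemL ht hs ht1 hz' zt.inv_left zs.inv_left hw' (act_inv (hW' w))))
    (fun w hw => Subtype.ext (by
      have hw' : ρ s (ρ t w.1) = w.1 := congrArg Subtype.val hw
      refine h.lemL h4 hs h41 hc4 ?_ (zs.mul_left zs) ?_ (by rw [act, hW', hW'])
      · exact ((zt.inv_right.mul_right zs).mul_right zt.inv_right).mul_left
          ((zt.inv_right.mul_right zs).mul_right zt.inv_right)
      · rw [e4, act, act, hW', hw']))
    (fun w hw => Subtype.ext (by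
      have hw' : ρ s (ρ t (ρ t w.1)) = w.1 := congrArg Subtype.val hw
      refine h.lemL h3 hs h31 hc3 ?_ (zs.inv_left.mul_left zs.inv_left) ?_
        (by rw [act, act_inv (hW' w), act_inv (hW' w)])
      · exact ((zt.mul_right zs).mul_right zt).inv_left.mul_left
          ((zt.mul_right zs).mul_right zt).inv_left
      · rw [e3, act, act_inv (hW' w), act, act, hw']))
  exact congrArg Subtype.val (key ⟨v, vz⟩)

/-- Commuting inverted elements generate the same cyclic group. -/
theorem lemR {s t : G} (hs : Inv P a s) (ht : Inv P a t) (hs1 : s ≠ 1) (hc : Commute s t) :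
    t ∈ Subgroup.zpowers s := by
  by_contra hts
  have ht3 := h.inv_cube ht
  have hmem : ∀ x, t * x = 1 → x ∈ Subgroup.zpowers s → False := fun x hx hm =>
    hts (by rw [eq_inv_of_mul_eq_one_left hx]; exact Subgroup.inv_mem _ hm)
  apply hs1
  apply h.inj
  rw [map_one]
  refine LinearMap.ext fun v => ?_
  refine h.lemM hs ht (fun he => hts (he ▸ Subgroup.one_mem _)) (fun he => ?_) (fun he => ?_)
    (z := 1) (commutatorElement_eq_one_iff_commute.2 hc) (Commute.one_left s) (Commute.one_left t)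
    (by simp)
  · have hst : s = t := by
      calc s = t⁻¹ * (t * s * t) * t⁻¹ := by group
        _ = t⁻¹ * t⁻¹ := by rw [he, mul_one]
        _ = t ^ 3 * (t⁻¹ * t⁻¹) := by rw [ht3, one_mul]
        _ = t := by group
    exact hts (hst ▸ Subgroup.mem_zpowers s)
  · have hst : t = s⁻¹ := by
      calc t = (t * t * t) * t⁻¹ * t⁻¹ := by group
        _ = t⁻¹ * t⁻¹ := by rw [← pow_two, ← pow_succ, ht3, one_mul]
        _ = (t * (t⁻¹ * s * t⁻¹) * t)⁻¹ := by rw [he]; group
        _ = s⁻¹ := by group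
    exact hts (hst ▸ Subgroup.inv_mem _ (Subgroup.mem_zpowers s))

/-- The group is the symmetric group of degree three or has order at least 54 and three generators. -/
theorem classify :
    Nonempty (G ≃* Equiv.Perm (Fin 3)) ∨ 54 ≤ Nat.card G ∧ ∃ b c : G, b * b = 1 ∧ b ∉ P ∧
      c * c = 1 ∧ c ∉ P ∧ Subgroup.closure {a, b, c} = ⊤ := by
  have := h.fin
  have : Fact (Nat.Prime 3) := ⟨Nat.prime_three⟩
  have hcard : Nat.card G = 2 * Nat.card P := by rw [← P.card_mul_index, h.index, mul_comm]
  obtain ⟨d, hd, hdP, hda⟩ := h.two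
  obtain ⟨s, hs, hs1⟩ : ∃ s, Inv P a s ∧ s ≠ 1 := ⟨d * a, h.inv_of_invol hd hdP, fun he => hda (by
    rw [eq_inv_of_mul_eq_one_left he, inv_eq_of_mul_eq_one_right h.sq])⟩
  by_cases hall : ∀ x, Inv P a x → x ∈ Subgroup.zpowers s
  · left
    have hPs : P = Subgroup.zpowers s := by
      refine le_antisymm ?_ (Subgroup.zpowers_le.2 hs.1)
      have hPc : ∀ p ∈ P, Commute s p := fun p hp => h.central (fun x hx => by
        obtain ⟨i, rfl⟩ := Subgroup.mem_zpowers_iff.1 (hall x hx)
        exact (Commute.refl s).zpow_right i) hp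
      have hP2 : ∀ p ∈ P, ∀ p' ∈ P, Commute p p' := fun p hp p' hp' =>
        h.central (fun x hx => by
          obtain ⟨i, rfl⟩ := Subgroup.mem_zpowers_iff.1 (hall x hx)
          exact ((hPc p hp).symm).zpow_right i) hp'
      have hn : a ∈ Subgroup.normalizer (Subgroup.zpowers s : Set G) := by
        rw [Subgroup.mem_normalizer_iff, inv_eq_of_mul_eq_one_right h.sq]
        have hh : ∀ x ∈ Subgroup.zpowers s, a * x * a ∈ Subgroup.zpowers s := by
          intro x hx
          obtain ⟨i, rfl⟩ := Subgroup.mem_zpowers_iff.1 hx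
          have : a * s ^ i * a = (s⁻¹) ^ i := by
            rw [← hs.2]
            have h' := conj_zpow (a := a) (b := s) (i := i)
            rw [inv_eq_of_mul_eq_one_right h.sq] at h'
            exact h'.symm
          rw [this]
          exact zpow_mem (Subgroup.inv_mem _ (Subgroup.mem_zpowers s)) i
        refine fun x => ⟨hh x, fun hx => ?_⟩
        have := hh _ hx
        simpa [mul_assoc, h.sq, ← mul_assoc a a] using this
      intro p hp
      have hK : Subgroup.zpowers a ⊔ Subgroup.zpowers s = ⊤ :=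
        h.gen_le (Subgroup.mem_sup_left (Subgroup.mem_zpowers a))
          fun x hx => Subgroup.mem_sup_right (hall x hx)
      have hm : p ∈ ((Subgroup.zpowers a ⊔ Subgroup.zpowers s : Subgroup G) : Set G) := by
        rw [hK]; trivial
      rw [Subgroup.coe_mul_of_left_le_normalizer_right _ _ (Subgroup.zpowers_le.2 hn)] at hm
      obtain ⟨y, hy, x, hx, rfl⟩ := hm
      have hyP : y ∈ P := (P.mul_mem_cancel_right (Subgroup.zpowers_le.2 hs.1 hx)).1 hp
      obtain ⟨i, rfl⟩ := Subgroup.mem_zpowers_iff.1 hy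
      rcases Int.even_or_odd i with ⟨m, rfl⟩ | ⟨m, rfl⟩
      · show a ^ (m + m) * x ∈ _
        rw [← two_mul, zpow_mul, zpow_two, h.sq, one_zpow, one_mul]; exact hx
      · rw [zpow_add, zpow_one, zpow_mul, zpow_two, h.sq, one_zpow, one_mul] at hyP
        exact absurd hyP h.nmem
    have hP3 : Nat.card P = 3 := by
      rw [hPs, Nat.card_zpowers, orderOf_eq_prime (h.inv_cube hs) hs1]
    have hA2 : Nat.card (Subgroup.zpowers a) = 2 := by
      rw [Nat.card_zpowers, orderOf_eq_prime (by rw [pow_two]; exact h.sq)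
        (fun he => h.nmem (by rw [he]; exact P.one_mem))]
    let f := MulAction.toPermHom G (G ⧸ Subgroup.zpowers a)
    have hinj : Function.Injective f := by
      rw [← MonoidHom.ker_eq_bot_iff, ← Subgroup.normalCore_eq_ker, eq_bot_iff]
      intro g hg
      have hga : g ∈ Subgroup.zpowers a := Subgroup.normalCore_le _ hg
      rw [Subgroup.mem_bot]
      obtain ⟨i, rfl⟩ := Subgroup.mem_zpowers_iff.1 hga
      rcases Int.even_or_odd i with ⟨m, rfl⟩ | ⟨m, rfl⟩
      · rw [← two_mul, zpow_mul, zpow_two, h.sq, one_zpow]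
      · exfalso
        have ea : a ^ (2 * m + 1) = a := by
          rw [zpow_add, zpow_one, zpow_mul, zpow_two, h.sq, one_zpow, one_mul]
        rw [ea] at hg
        obtain ⟨j, hj⟩ := Subgroup.mem_zpowers_iff.1 (hg s)
        have hj' : a ^ j = a ∨ a ^ j = 1 := by
          rcases Int.even_or_odd j with ⟨m', rfl⟩ | ⟨m', rfl⟩
          · right; rw [← two_mul, zpow_mul, zpow_two, h.sq, one_zpow]
          · left; rw [zpow_add, zpow_one, zpow_mul, zpow_two, h.sq, one_zpow, one_mul]
        rcases hj' with e | e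
        · rw [e] at hj
          have hsa : a * s = s * a := by
            calc a * s = s * a * s⁻¹ * s := by rw [← hj]
              _ = s * a := by group
          have e2 : a * s * a = s := by rw [hsa, mul_assoc, h.sq, mul_one]
          apply hs1
          have := h.inv_cube hs
          rw [hs.2] at e2
          rw [pow_succ, pow_two, show s * s = 1 by nth_rw 1 [← e2]; exact inv_mul_cancel s, one_mul] at this
          exact this
        · rw [e] at hj
          exact h.nmem (by
            have : a = 1 := by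
              calc a = s⁻¹ * (s * a * s⁻¹) * s := by group
                _ = 1 := by rw [← hj]; group
            rw [this]; exact P.one_mem)
    have hidx : Nat.card (G ⧸ Subgroup.zpowers a) = 3 := by
      have := (Subgroup.zpowers a).card_eq_card_quotient_mul_card_subgroup
      rw [hcard, hP3, hA2] at this
      omega
    have : Fintype (G ⧸ Subgroup.zpowers a) := Fintype.ofFinite _
    let e3 : Equiv.Perm (G ⧸ Subgroup.zpowers a) ≃* Equiv.Perm (Fin 3) :=
      (Finite.equivFinOfCardEq hidx).permCongrHom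
    have hb : Function.Bijective (e3.toMonoidHom.comp f) := by
      refine (Nat.bijective_iff_injective_and_card _).2 ⟨e3.injective.comp hinj, ?_⟩
      rw [hcard, hP3, Nat.card_perm, Nat.card_fin]
      rfl
    exact ⟨MulEquiv.ofBijective _ hb⟩
  · right
    push Not at hall
    obtain ⟨y0, hy0, hy0s⟩ := hall
    have hnc : ¬ Commute s y0 := fun hc => hy0s (h.lemR hs hy0 hs1 hc)
    -- inverted elements central in P are trivial
    have hIZ : ∀ x, Inv P a x → (∀ p ∈ P, Commute x p) → x = 1 := by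
      intro x hx hxc
      by_contra hx1
      obtain ⟨i, rfl⟩ := Subgroup.mem_zpowers_iff.1 (h.lemR hx hs hx1 (hxc s hs.1))
      obtain ⟨j, rfl⟩ := Subgroup.mem_zpowers_iff.1 (h.lemR hx hy0 hx1 (hxc y0 hy0.1))
      exact hnc (Commute.zpow_zpow (Commute.refl x) i j)
    have hconjP : ∀ p ∈ P, a * p * a ∈ P := fun p hp => by
      have : P.Normal := Subgroup.normal_of_index_eq_two h.index
      have := this.conj_mem p hp a
      rwa [inv_eq_of_mul_eq_one_right h.sq] at this
    have hmix : ∀ k ∈ P, Inv P a (k⁻¹ * (a * k * a)) := fun k hk => by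
      refine ⟨P.mul_mem (P.inv_mem hk) (hconjP k hk), ?_⟩
      rw [h.cj_mul, h.cj_inv, h.cj_cj]; group
    have haZ : ∀ z ∈ P, (∀ p ∈ P, Commute z p) → a * z * a = z := by
      intro z hz hzc
      have hc : ∀ p ∈ P, Commute (a * z * a) p := fun p hp => by
        show a * z * a * p = p * (a * z * a)
        have := congrArg (fun g => a * g * a) (hzc _ (hconjP p hp)).eq
        simp only [mul_assoc, ← mul_assoc a a, h.sq, one_mul, mul_one] at this ⊢
        exact this
      have := hIZ _ (hmix z hz) fun p hp => (hzc p hp).inv_left.mul_left (hc p hp)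
      exact (inv_mul_eq_one.1 this).symm
    obtain ⟨k, hkP, hk2, hknc⟩ : ∃ k ∈ P, (∀ p ∈ P, ∀ p' ∈ P, Commute ⁅k, p⁆ p') ∧
        ∃ p ∈ P, ¬ Commute k p := by
      have hne : Nontrivial (P ⧸ Subgroup.center P) := by
        refine QuotientGroup.nontrivial_iff.2 fun htop => hnc ?_
        have hm : (⟨s, hs.1⟩ : P) ∈ Subgroup.center P := htop ▸ Subgroup.mem_top _
        exact (congrArg Subtype.val (Subgroup.mem_center_iff.1 hm ⟨y0, hy0.1⟩)).symm
      obtain ⟨c, hc, hc1⟩ := (Subgroup.center (P ⧸ Subgroup.center P)).bot_or_exists_ne_one.resolve_left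
        (by
          have := (h.pgroup.to_quotient (Subgroup.center P)).center_nontrivial
          exact (Subgroup.nontrivial_iff_ne_bot _).1 this)
      induction c using QuotientGroup.induction_on with | _ k => ?_
      refine ⟨k, k.2, fun p hp p' hp' => ?_, ?_⟩
      · have hm : ⁅k, (⟨p, hp⟩ : P)⁆ ∈ Subgroup.center P := by
          rw [← QuotientGroup.eq_one_iff, ← QuotientGroup.mk'_apply, map_commutatorElement,
            commutatorElement_eq_one_iff_commute]
          exact (Subgroup.mem_center_iff.1 hc _).symm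
        exact (congrArg Subtype.val (Subgroup.mem_center_iff.1 hm ⟨p', hp'⟩)).symm
      · by_contra hall
        push Not at hall
        refine hc1 ((QuotientGroup.eq_one_iff k).2 (Subgroup.mem_center_iff.2 fun p => Subtype.ext ?_))
        exact (hall p p.2).eq.symm
    have hcomP : ∀ p ∈ P, ∀ p' ∈ P, ⁅p, p'⁆ ∈ P := fun p hp p' hp' => by
      rw [commutatorElement_def]
      exact P.mul_mem (P.mul_mem (P.mul_mem hp hp') (P.inv_mem hp)) (P.inv_mem hp')
    set u := k⁻¹ * (a * k * a) with hu
    have huI : Inv P a u := hmix k hkP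
    have hu2 : ∀ p ∈ P, ∀ p' ∈ P, Commute ⁅u, p⁆ p' := by
      intro p hp p' hp'
      have e1 : ⁅a * k * a, p⁆ = a * ⁅k, a * p * a⁆ * a := by rw [h.cj_comm, h.cj_cj]
      rw [haZ _ (hcomP k hkP _ (hconjP p hp)) fun q hq => hk2 _ (hconjP p hp) q hq] at e1
      have e2 : ⁅u, p⁆ = k⁻¹ * ⁅a * k * a, p⁆ * ⁅k, p⁆⁻¹ * k := by
        rw [hu, commutatorElement_def, commutatorElement_def, commutatorElement_def]; group
      have hc1 : ∀ q ∈ P, Commute ⁅k, a * p * a⁆ q := hk2 _ (hconjP p hp)
      rw [e1] at e2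
      have e3 : ⁅u, p⁆ = ⁅k, a * p * a⁆ * ⁅k, p⁆⁻¹ := by
        rw [e2, mul_assoc k⁻¹, mul_assoc k⁻¹, ((hc1 k hkP).mul_left (hk2 p hp k hkP).inv_left).eq,
          inv_mul_cancel_left]
      rw [e3]
      exact (hc1 p' hp').mul_left (hk2 p hp p' hp').inv_left
    have hu1 : u ≠ 1 := by
      intro he
      have hak : a * k * a = k := (inv_mul_eq_one.1 he).symm
      obtain ⟨p, hp, hnp⟩ := hknc
      refine hnp (h.central (fun x hx => ?_) hp)
      rw [← commutatorElement_eq_one_iff_commute]
      have hz := haZ _ (hcomP k hkP x hx.1) fun q hq => hk2 x hx.1 q hq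
      have e1 : a * ⁅k, x⁆ * a = ⁅k, x⁻¹⁆ := by rw [h.cj_comm, hak, hx.2]
      have e2 : ⁅k, x⁻¹⁆ = ⁅k, x⁆⁻¹ := by
        calc ⁅k, x⁻¹⁆ = x⁻¹ * ⁅k, x⁆⁻¹ * x := by
              rw [commutatorElement_def, commutatorElement_def]; group
          _ = _ := by rw [mul_assoc, (hk2 x hx.1 x hx.1).inv_left.eq, inv_mul_cancel_left]
      rw [e1, e2] at hz
      have hc2 : ⁅k, x⁆ ^ 2 = 1 := by rw [pow_two]; nth_rw 1 [← hz]; exact inv_mul_cancel _
      obtain ⟨n, hn⟩ := h.pgroup ⟨_, hcomP k hkP x hx.1⟩
      have hn' : ⁅k, x⁆ ^ 3 ^ n = 1 := congrArg Subtype.val hn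
      have := pow_gcd_eq_one.2 ⟨hc2, hn'⟩
      rwa [show Nat.gcd 2 (3 ^ n) = 1 from (Nat.Coprime.pow_right n (by norm_num)), pow_one] at this
    have hz3 : ∀ x ∈ P, ⁅u, x⁆ ^ 3 = 1 := fun x hx =>
      commute_three (h.inv_cube huI) ((hu2 x hx u huI.1).symm)
    have hMu : ∀ w, Inv P a w → w ∉ Subgroup.zpowers u → ∀ v, ρ ⁅u, w⁆ v = v → ρ u v = v := by
      intro w hw hwu v hv
      have hw3 := h.inv_cube hw
      refine h.lemM huI hw (fun e => hwu (e ▸ Subgroup.one_mem _)) (fun e => hwu ?_) (fun e => hwu ?_)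
        rfl (hu2 w hw.1 u huI.1) (hu2 w hw.1 w hw.1) hv
      · have : u = w := by
          calc u = w⁻¹ * (w * u * w) * w⁻¹ := by group
            _ = w⁻¹ * w⁻¹ := by rw [e, mul_one]
            _ = w ^ 3 * (w⁻¹ * w⁻¹) := by rw [hw3, one_mul]
            _ = w := by group
        exact this ▸ Subgroup.mem_zpowers u
      · have : w = u⁻¹ := by
          calc w = (w * w * w) * w⁻¹ * w⁻¹ := by group
            _ = w⁻¹ * w⁻¹ := by rw [← pow_two, ← pow_succ, hw3, one_mul]
            _ = (w * (w⁻¹ * u * w⁻¹) * w)⁻¹ := by rw [e]; group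
            _ = u⁻¹ := by group
        exact this ▸ Subgroup.inv_mem _ (Subgroup.mem_zpowers u)
    have hhom : ∀ p ∈ P, ∀ p' ∈ P, ⁅u, p * p'⁆ = ⁅u, p⁆ * ⁅u, p'⁆ := by
      intro p hp p' hp'
      calc ⁅u, p * p'⁆ = ⁅u, p⁆ * (p * ⁅u, p'⁆ * p⁻¹) := by
            simp only [commutatorElement_def]; group
        _ = _ := by rw [← (hu2 p' hp' p hp).eq]; group
    have pairs : ∀ x, Inv P a x → x ∉ Subgroup.zpowers u → ∀ y, Inv P a y → y ∉ Subgroup.zpowers u →
        y * x * y ∈ Subgroup.zpowers u ∨ y⁻¹ * x * y⁻¹ ∈ Subgroup.zpowers u := by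
      intro x hx hxu y hy hyu
      by_contra hcon
      push Not at hcon
      have hyi := h.inv_inv hy
      have c12 : Commute ⁅u, x⁆ ⁅u, y⁆ := hu2 x hx.1 _ (hcomP u huI.1 y hy.1)
      have hinv : ⁅u, y⁻¹⁆ = ⁅u, y⁆⁻¹ := by
        have := hhom y hy.1 y⁻¹ hyi.1
        rw [mul_inv_cancel, commutatorElement_one_right] at this
        exact eq_inv_of_mul_eq_one_right this.symm
      have h33 := hz3 y hy.1
      have e3 : ⁅u, y * x * y⁆ = ⁅u, x⁆ * (⁅u, y⁆ * ⁅u, y⁆) := by
        rw [hhom _ (P.mul_mem hy.1 hx.1) _ hy.1, hhom _ hy.1 _ hx.1, ← c12.eq, mul_assoc]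
      have e4 : ⁅u, y⁻¹ * x * y⁻¹⁆ = ⁅u, x⁆ * ⁅u, y⁆ := by
        rw [hhom _ (P.mul_mem hyi.1 hx.1) _ hyi.1, hhom _ hyi.1 _ hx.1, hinv, ← c12.inv_right.eq,
          mul_assoc]
        congr 1
        rw [← mul_inv_rev]
        exact inv_eq_of_mul_eq_one_right (by rw [← h33, pow_succ, pow_two])
      have cube' : ∀ g : G, g ^ 3 = 1 → ∀ w : V, ρ g (ρ g (ρ g w)) = w := fun g hg w => by
        rw [← act, ← act, show g * g * g = 1 by rw [← hg, pow_succ, pow_two], map_one,
          Module.End.one_apply]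
      refine hu1 (h.inj (LinearMap.ext fun v => ?_))
      rw [map_one, Module.End.one_apply]
      exact four_lines two_torsion (ρ u).toAddMonoidHom (ρ ⁅u, x⁆).toAddMonoidHom
        (ρ ⁅u, y⁆).toAddMonoidHom (cube' _ (hz3 x hx.1)) (cube' _ (hz3 y hy.1))
        (fun w => by
          show ρ ⁅u, x⁆ (ρ ⁅u, y⁆ w) = ρ ⁅u, y⁆ (ρ ⁅u, x⁆ w)
          rw [← act, c12.eq, act])
        (fun w hw => hMu x hx hxu w hw) (fun w hw => hMu y hy hyu w hw)
        (fun w hw => hMu _ (h.inv_triple hx hyi) hcon.2 w (by rw [e4, act]; exact hw))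
        (fun w hw => hMu _ (h.inv_triple hx hy) hcon.1 w (by rw [e3, act, act]; exact hw)) v
    obtain ⟨y, hy, hyu⟩ : ∃ y, Inv P a y ∧ y ∉ Subgroup.zpowers u := by
      by_contra hcon
      push Not at hcon
      obtain ⟨i, hi⟩ := Subgroup.mem_zpowers_iff.1 (hcon s hs)
      obtain ⟨j, hj⟩ := Subgroup.mem_zpowers_iff.1 (hcon y0 hy0)
      exact hnc (hi ▸ hj ▸ Commute.zpow_zpow (Commute.refl u) i j)
    refine ⟨?_, a * u, a * y, (h.invol huI).1, (h.invol huI).2, (h.invol hy).1, (h.invol hy).2, ?_⟩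
    · obtain ⟨n, hn⟩ := IsPGroup.iff_card.1 h.pgroup
      rw [hcard, hn]
      rcases Nat.lt_or_ge n 3 with hn3 | hn3
      · exfalso
        apply hnc
        have hcomm : ∀ p q : P, p * q = q * p := by
          interval_cases n
          · have : Subsingleton P :=
              (Nat.card_eq_one_iff_unique.1 (hn.trans (pow_zero 3))).1
            exact fun p q => Subsingleton.elim _ _
          · have : IsCyclic P := isCyclic_of_prime_card (p := 3) (hn.trans (pow_one 3))
            exact fun p q => IsMulCommutative.is_comm.comm p q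
          · exact fun p q => (IsPGroup.isMulCommutative_of_card_eq_prime_sq hn).is_comm.comm p q
        exact congrArg Subtype.val (hcomm ⟨s, hs.1⟩ ⟨y0, hy0.1⟩)
      · calc 54 = 2 * 3 ^ 3 := by norm_num
          _ ≤ 2 * 3 ^ n := by gcongr; norm_num
    · set K := Subgroup.closure ({a, a * u, a * y} : Set G)
      have haK : a ∈ K := Subgroup.subset_closure (by simp)
      have hmemK : ∀ x, a * x ∈ K → x ∈ K := fun x hx => by
        have := K.mul_mem haK hx
        rwa [← mul_assoc, h.sq, one_mul] at this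
      have huK : Subgroup.zpowers u ≤ K :=
        Subgroup.zpowers_le.2 (hmemK u (Subgroup.subset_closure (by simp)))
      have hyK : y ∈ K := hmemK y (Subgroup.subset_closure (by simp))
      refine h.gen_le haK fun x hx => ?_
      by_cases hxu : x ∈ Subgroup.zpowers u
      · exact huK hxu
      · rcases pairs x hx hxu y hy hyu with hp | hp
        · have := K.mul_mem (K.mul_mem (K.inv_mem hyK) (huK hp)) (K.inv_mem hyK)
          convert this using 1
          group
        · have := K.mul_mem (K.mul_mem hyK (huK hp)) hyK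
          convert this using 1
          group

end Hyp

end Cfsg.Agent.SU32
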